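/-
Project HY: words, normal forms and maps in the model `Λ`.
-/
import Cfsg.Agent.HY.Mdl1

set_option autoImplicit false

open Cfsg Subgroup CL.M12c CL.PcL CL.DW CL.Spor SemidirectProduct
open CL.YA (V VB vv vb ff fb mkV mkB V_ext VB_ext V_sq V_inv V_comm card_V linF par pop vA0 all_TG)

namespace CL.HY

instance (priority := 30000) decAllList (l : List Λ) (q : Λ → Prop) [DecidablePred q] : Decidable (∀ a ∈ l, q a) :=
  List.decidableBAll q l
instance (priority := 30000) decExList (l : List Λ) (q : Λ → Prop) [DecidablePred q] : Decidable (∃ a ∈ l, q a) :=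
  List.decidableBEx q l
instance (priority := 30000) decAllSd (D : Subgroup V) (Q : Subgroup P7) (h : ∀ q ∈ Q, ∀ a ∈ D, ρ q a ∈ D)
    [DecidablePred (· ∈ D)] [DecidablePred (· ∈ Q)] (q : Λ → Prop) [DecidablePred q] :
    Decidable (∀ x ∈ sd D Q h, q x) :=
  decidable_of_iff (∀ p ∈ Q, ∀ a ∈ D, q ⟨a, p⟩) ⟨all_sd, fun k p hp a ha => k ⟨a, p⟩ ⟨hp, ha⟩⟩
instance (priority := 30000) decExSd (D : Subgroup V) (Q : Subgroup P7) (h : ∀ q ∈ Q, ∀ a ∈ D, ρ q a ∈ D)
    [DecidablePred (· ∈ D)] [DecidablePred (· ∈ Q)] (q : Λ → Prop) [DecidablePred q] :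
    Decidable (∃ x ∈ sd D Q h, q x) :=
  decidable_of_iff (¬ ∀ x ∈ sd D Q h, ¬ q x) (by push Not; rfl)

/-! ### Words and generators -/

/-- the product of the members of `l` selected by the bits of `n` -/
def wd {H : Type*} [Group H] : List H → ℕ → H
  | [], _ => 1
  | a :: l, n => cond (Nat.beq (Nat.land n 1) 1) (a * wd l (Nat.shiftRight n 1)) (wd l (Nat.shiftRight n 1))

theorem wd_mem {H : Type*} [Group H] {K : Subgroup H} : ∀ {l : List H} {n : ℕ},
    (∀ i, tb n i = true → l.getD i 1 ∈ K) → wd l n ∈ K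
  | [], _, _ => K.one_mem
  | a :: l, n, h => by
    have := wd_mem (l := l) (n := Nat.shiftRight n 1) fun i hi => h (i + 1) (by
      rw [tb_eq] at hi ⊢
      rwa [Nat.testBit_add_one, ← Nat.shiftRight_one])
    unfold wd
    cases e : Nat.beq (Nat.land n 1) 1
    exacts [this, K.mul_mem (h 0 e) this]

abbrev lV : List Λ := [ez, e14, e13, e12, et, es, er, eu]
abbrev lP : List Λ := [e25, e24, e23, ey, e35, e34, e45]

/-- the exponents with respect to `lV` -/
def nV (a : V) : ℕ := Nat.land (Nat.shiftRight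
  0x1819616aa2a3dbdbe3e29a915958202cc4c5bdb67e7f07073f3e464d8584fcfde5e49c975f5e26261e1f676ca4a5ddd13938404b8382fafac2c3bbb07879010ee6e79f945c5d25251d1c646fa7a6ded23a3b43488081f9f9c1c0b8b37b7a02031b1a6269a1a0d8d8e0e199925a5b232fc7c6beb57d7c04043c3d454e8687ffffe7e69e955d5c24241c1d656ea6a7dfd33b3a42498180f8f8c0c1b9b27a7b03021a1b6368a0a1d9d9e1e098935b5a222ec6c7bfb47c7d05053d3c444f8786fef11918606ba3a2dadae2e39b905859212dc5c4bcb77f7e06063e3f474c8485fdfce4e59d965e5f27271f1e666da5a4dcd03839414a8283fbfbc3c2bab17978000 (Nat.mul 8 a.1)) 255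
/-- the exponents with respect to `lP` -/
def nP (p : P7) : ℕ := Nat.land (Nat.shiftRight
  0xa366dd3bb56bdfbd5aa5ca56ac50e3efcf3fbdfafffdd3b7ce5e3d70c3a75e3dd9b26cdb973efc5ab460832e4c39d1234c9b1e2cf85225402274f123254b1a365ca18267ce1042b96a252992aa56913a846b17a062f5f3276dda3872d5b3a66fde3002386821610388121828a0630780 (Nat.mul 7 p.1)) 127

theorem wd_nV : ∀ a : V, wd lV (nV a) = inl a := by decide +kernel
theorem wd_nP : ∀ p : P7, wd lP (nP p) = inr p := by decide +kernel

/-- the map given by the images `l1` of `lV` and `l2` of `lP` on normal forms -/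
def mp {H : Type*} [Group H] (l1 l2 : List H) (x : Λ) : H := wd l1 (nV x.left) * wd l2 (nP x.right)

theorem mp_id (x : Λ) : mp lV lP x = x := by rw [mp, wd_nV, wd_nP, inl_left_mul_inr_right]

/-- the normal forms of the elements of `K` only use the generators selected by the masks `m1`, `m2` -/
def Nf (K : Subgroup Λ) (m1 m2 : ℕ) : Prop := ∀ x ∈ K, (∀ i, tb (nV x.left) i = true → tb m1 i = true) ∧
  ∀ i, tb (nP x.right) i = true → tb m2 i = true

theorem tb_land {n m i : ℕ} (h : Nat.land n m = n) (hi : tb n i = true) : tb m i = true := by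
  rw [tb_eq] at hi ⊢
  rw [← h] at hi
  exact (Bool.and_eq_true _ _ ▸ (Nat.testBit_and n m i).symm.trans hi :).2

theorem nf_sd {D : Subgroup V} {Q : Subgroup P7} {h : ∀ q ∈ Q, ∀ a ∈ D, ρ q a ∈ D} {m1 m2 : ℕ}
    (h1 : ∀ a ∈ D, Nat.land (nV a) m1 = nV a) (h2 : ∀ p ∈ Q, Nat.land (nP p) m2 = nP p) : Nf (sd D Q h) m1 m2 :=
  fun _ hx => ⟨fun _ => tb_land (h1 _ hx.2), fun _ => tb_land (h2 _ hx.1)⟩

/-- induction on the generators -/
theorem Nf.le {K X : Subgroup Λ} {m1 m2 : ℕ} (h : Nf K m1 m2) (h1 : ∀ i < 8, tb m1 i = true → lV.getD i 1 ∈ X)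
    (h2 : ∀ i < 7, tb m2 i = true → lP.getD i 1 ∈ X) : K ≤ X := fun x hx => by
  rw [← mp_id x]
  refine X.mul_mem (wd_mem fun i hi => ?_) (wd_mem fun i hi => ?_)
  · rcases lt_or_ge i 8 with k | k
    exacts [h1 i k ((h x hx).1 i hi), by rw [List.getD_eq_default _ _ k]; exact X.one_mem]
  · rcases lt_or_ge i 7 with k | k
    exacts [h2 i k ((h x hx).2 i hi), by rw [List.getD_eq_default _ _ k]; exact X.one_mem]

/-- `K` is generated by `l` -/
def Gen (K : Subgroup Λ) (l : List Λ) : Prop := (∀ a ∈ l, a ∈ K) ∧ ∀ X : Subgroup Λ, (∀ a ∈ l, a ∈ X) → K ≤ X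

theorem Nf.gen {K : Subgroup Λ} {m1 m2 : ℕ} (h : Nf K m1 m2) {l : List Λ} (h0 : ∀ a ∈ l, a ∈ K)
    (h1 : ∀ i < 8, tb m1 i = true → lV.getD i 1 ∈ l) (h2 : ∀ i < 7, tb m2 i = true → lP.getD i 1 ∈ l) : Gen K l :=
  ⟨h0, fun _ hX => h.le (fun i hi k => hX _ (h1 i hi k)) fun i hi k => hX _ (h2 i hi k)⟩

theorem nfT : Nf sT 15 0x77 := nf_sd (by decide +kernel) (by decide +kernel)
theorem nfA : Nf sA 1 0x51 := nf_sd (by decide +kernel) (by decide +kernel)
theorem nfB : Nf sB 15 0 := nf_sd (by decide +kernel) (by decide +kernel)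
theorem nfQ : Nf sQ 15 0x51 := nf_sd (by decide +kernel) (by decide +kernel)
theorem nfW1 : Nf sW1 7 7 := nf_sd (by decide +kernel) (by decide +kernel)
theorem nfW2 : Nf sW2 3 0x33 := nf_sd (by decide +kernel) (by decide +kernel)
theorem nfJ : Nf sJ 7 0x37 := nf_sd (by decide +kernel) (by decide +kernel)
theorem nf12 : Nf sT12 7 0x77 := nf_sd (by decide +kernel) (by decide +kernel)
theorem nf23 : Nf sT23 15 0x73 := nf_sd (by decide +kernel) (by decide +kernel)
theorem nf34 : Nf sT34 15 0x57 := nf_sd (by decide +kernel) (by decide +kernel)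
theorem nfD : Nf sD 127 0x51 := nf_sd (by decide +kernel) (by decide +kernel)
theorem nfET : Nf sET 127 0x77 := nf_sd (by decide +kernel) (by decide +kernel)
theorem nfU : Nf sU 0x17 15 := nf_sd (by decide +kernel) (by decide +kernel)
theorem nfY : Nf sY 0x17 127 := nf_sd (by decide +kernel) (by decide +kernel)
theorem nfH23 (b : Bool) : Nf (sH23 b) (cond b 255 127) 0x73 :=
  nf_sd (by cases b <;> decide +kernel) (by decide +kernel)
theorem nfH34 (b : Bool) : Nf (sH34 b) (cond b 255 127) 0x57 :=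
  nf_sd (by cases b <;> decide +kernel) (by decide +kernel)
theorem nfS (b : Bool) : Nf (sS b) (cond b 255 127) 127 := nf_sd (by cases b <;> decide +kernel) (by decide +kernel)

theorem genT : Gen sT [ez, e14, e13, e12, e25, e24, e23, e35, e34, e45] :=
  nfT.gen (by decide +kernel) (by decide +kernel) (by decide +kernel)
theorem genA : Gen sA [ez, e25, e35, e45] := nfA.gen (by decide +kernel) (by decide +kernel) (by decide +kernel)
theorem genB : Gen sB [ez, e14, e13, e12] := nfB.gen (by decide +kernel) (by decide +kernel) (by decide +kernel)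
theorem genQ : Gen sQ [ez, e14, e13, e12, e25, e35, e45] :=
  nfQ.gen (by decide +kernel) (by decide +kernel) (by decide +kernel)

/-! ### Maps -/

/-- the graph automorphism of `T` -/
def tau : Λ → Λ := mp [ez, e25, e35, e45] [e14, e24, e34, 1, e13, e23, e12]
/-- the exchange of the coordinates `x1`, `x2` (meaningful on `sY`) -/
def pi12 : Λ → Λ := mp [e25, e24, e23, 1, ey] [ez, e14, e13, et, e35, e34, e45]
/-- the exchange of the coordinates `x2`, `x3` (meaningful on `sH23 true`) -/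
def pi23 : Λ → Λ := mp [ez, e14, e12, e13, es, et, er, eu] [e35, e34, 1, 1, e25, e24, e45]
/-- the exchange of the coordinates `x3`, `x4` (meaningful on `sH34 true`) -/
def pi34 : Λ → Λ := mp [ez, e13, e14, e12, et, er, es, eu] [e25, e23, e24, ey, e45, 1, e35]
/-- conjugation by a three-cycle on the four points with `x3 = x4 = 0` (meaningful on `sPf`) -/
def kap (x : Λ) : Λ := x * cond (tb x.left.1 0) (cond (tb x.right.1 0) (ll 0 1) (ll 3 1))
  (cond (tb x.right.1 0) (ll 3 0) 1)
/-- the central automorphism with kernel `sS false` -/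
def thU (x : Λ) : Λ := cond (tb (par x.left.1) 0) (x * ez) x

/-- `E` in the coordinates `15, 14, 13, 12, t, s, r` -/
def bE : VB →* Λ := mkB (fun b => ll (linF 0x88a0c0aaccf0ff b.1) 0) (by decide +kernel)

/-- the coordinates of an even mask -/
def cE (a : V) : VB := vb (linF 0x7f6f5f4d3f2b1700 a.1)

theorem bE_cE : ∀ a ∈ vE, bE (cE a) = inl a := by decide +kernel
theorem cE_bE : ∀ b : VB, cE (bE b).left = b ∧ bE b ∈ sE := by decide +kernel

/-- the linear map of `VB` with table `t` -/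
def mB (t : ℕ) (b : VB) : VB := vb (linF t b.1)

/-- the table `t` with the images of `t, s, r` multiplied by `z` according to the bits of `k` -/
def twB (t k : ℕ) : ℕ := Nat.xor t (Nat.add (Nat.add (Nat.shiftLeft (Nat.land k 1) 32)
  (Nat.shiftLeft (Nat.land (Nat.shiftRight k 1) 1) 40)) (Nat.shiftLeft (Nat.land (Nat.shiftRight k 2) 1) 48))

def fixM (p : ℕ) : ℕ := Nat.land (Nat.shiftRight fix7 (Nat.mul 8 p)) 255

/-- the number of the points among the sixteen moved by `x` -/
def s16 (x : Λ) : ℕ := Nat.sub 16 (Nat.mul 2 (pop (Nat.land (fixM x.right.1) (Nat.xor x.left.1 255))))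

/-- the number of moved points in degree eighteen -/
def s18 (x : Λ) : ℕ := Nat.add (s16 x) (Nat.mul 2 (par x.left.1))

/-- the image of the block `i` -/
def blk (p : P7) (i : ℕ) : ℕ := Nat.land (Nat.shiftRight blk7 (Nat.mul 3 (Nat.add (Nat.mul 8 p.1) i))) 7

end CL.HY
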