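/-
Project HY (helper91), job HY-Bs (helper7): the first consequences of `Base`.
-/
import Cfsg.Agent.HY.Defs

set_option autoImplicit false

open Cfsg Subgroup CL.Grp CL.M12c CL.DW SemidirectProduct
open CL.YA (V VB vv vb fb N2 par)

namespace CL.HY

universe u

namespace BsP

/-! ### Finite facts -/

/-- `⟨15, 25, 35⟩` -/
abbrev sF3 : Subgroup Λ := sd vZ (ps 0x8001000000008001)
abbrev sZ2 : Subgroup Λ := sd vZ2 p1
abbrev sZ3 : Subgroup Λ := sd v3 p1

theorem lA : sA ≤ sT := by intro a ha; revert a; decide +kernel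
theorem lB : sB ≤ sT := by intro a ha; revert a; decide +kernel
theorem lZ : sZ ≤ sT := by intro a ha; revert a; decide +kernel
theorem lF : sF ≤ sT := by intro a ha; revert a; decide +kernel
theorem lF3 : sF3 ≤ sT := by intro a ha; revert a; decide +kernel
theorem lZ2 : sZ2 ≤ sT := by intro a ha; revert a; decide +kernel
theorem lZ3 : sZ3 ≤ sT := by intro a ha; revert a; decide +kernel
theorem sqA : ∀ a ∈ sA, a * a = 1 := by decide +kernel
theorem cardA : Nat.card sA = 16 := by rw [card_sd, NG.card_subgroup, CL.PcL.TG.card_subgroup]; decide +kernel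

theorem nfZ : Nf sZ 1 0 := nf_sd (by decide +kernel) (by decide +kernel)
theorem nfF : Nf sF 1 1 := nf_sd (by decide +kernel) (by decide +kernel)
theorem nfF3 : Nf sF3 1 0x11 := nf_sd (by decide +kernel) (by decide +kernel)
theorem nfZ2 : Nf sZ2 3 0 := nf_sd (by decide +kernel) (by decide +kernel)
theorem nfZ3 : Nf sZ3 7 0 := nf_sd (by decide +kernel) (by decide +kernel)
theorem genZ : Gen sZ [ez] := nfZ.gen (by decide +kernel) (by decide +kernel) (by decide +kernel)
theorem genF : Gen sF [ez, e25] := nfF.gen (by decide +kernel) (by decide +kernel) (by decide +kernel)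
theorem genF3 : Gen sF3 [ez, e25, e35] := nfF3.gen (by decide +kernel) (by decide +kernel) (by decide +kernel)
theorem genZ2 : Gen sZ2 [ez, e14] := nfZ2.gen (by decide +kernel) (by decide +kernel) (by decide +kernel)
theorem genZ3 : Gen sZ3 [ez, e14, e13] := nfZ3.gen (by decide +kernel) (by decide +kernel) (by decide +kernel)

theorem c1 : ∀ t ∈ sT, t * ez = ez * t := by decide +kernel
theorem c2 : ∀ t ∈ sT, t * e25 * t⁻¹ * e25⁻¹ ∈ sZ := by decide +kernel
theorem c3 : ∀ t ∈ sT, t * e35 * t⁻¹ * e35⁻¹ ∈ sF := by decide +kernel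
theorem d1 : ∀ b ∈ sA, (∀ t ∈ [e12, e23, e34], t * b = b * t) → b ≠ 1 → b = ez := by decide +kernel
theorem d2 : ∀ b ∈ sA, (∀ t ∈ [e12, e23, e34], t * b * t⁻¹ * b⁻¹ ∈ sZ) → b ∈ sF := by decide +kernel
theorem d3 : ∀ b ∈ sA, (∀ t ∈ [e12, e23, e34], t * b * t⁻¹ * b⁻¹ ∈ sF) → b ∈ sF3 := by decide +kernel
theorem d0 : ∀ t ∈ [e12, e23, e34], t ∈ sT := by decide +kernel

theorem tA1 : ∀ i < 8, tb 1 i = true → i = 0 := by decide
theorem tA2 : ∀ i < 7, tb 0x51 i = true → i = 0 ∨ i = 4 ∨ i = 6 := by decide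
theorem tB1 : ∀ i < 8, tb 15 i = true → i = 0 ∨ i = 1 ∨ i = 2 ∨ i = 3 := by decide
theorem tB2 : ∀ i < 7, ¬ tb 0 i = true := by decide

abbrev yA (n : ℕ) : Λ := wd [e12, e13, e14, e23, e24, e34] n
abbrev yB (n : ℕ) : Λ := wd [e45, e35, e25, e34, e24, e23] n

theorem yAm : ∀ n < 64, yA n ∈ sT := by decide +kernel
theorem yBm : ∀ n < 64, yB n ∈ sT := by decide +kernel

theorem exA : ∀ b2 ∈ sF, b2 ∉ sZ → ∀ b3 ∈ sF3, b3 ∉ sF → ∀ b4 ∈ sA, b4 ∉ sF3 → ∃ n < 64,
    yA n * e25 * (yA n)⁻¹ = b2 ∧ yA n * e35 * (yA n)⁻¹ = b3 ∧ yA n * e45 * (yA n)⁻¹ = b4 := by decide +kernel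

theorem exB : ∀ b2 ∈ sZ2, b2 ∉ sZ → ∀ b3 ∈ sZ3, b3 ∉ sZ2 → ∀ b4 ∈ sB, b4 ∉ sZ3 → ∃ n < 64,
    yB n * e14 * (yB n)⁻¹ = b2 ∧ yB n * e13 * (yB n)⁻¹ = b3 ∧ yB n * e12 * (yB n)⁻¹ = b4 := by decide +kernel

/-- the moves -/
def mvF (m : ℕ) (x : Λ) : Λ := match m with
  | 0 => pi12 x
  | 1 => pi23 x
  | 2 => pi34 x
  | 3 => e12 * x * e12⁻¹
  | 4 => e23 * x * e23⁻¹
  | 5 => e34 * x * e34⁻¹
  | _ => e45 * x * e45⁻¹

def dom (m : ℕ) (x : Λ) : Bool := match m with
  | 0 => decide (x ∈ sT12)
  | 1 => decide (x ∈ sT23)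
  | 2 => decide (x ∈ sT34)
  | _ => true

def tabC : ℕ := 0x332c332d00002b2400000000332c00000000000000000000000000000000000000000000000000000000000000000000000000000000000000000000000000000000000000000000000000000000000000000000000000000000000000000000000000000000333400000000342c00000000000000000000000000000000000000000000000000000000000000000000000000000000332b000000002d250000000000000000000000000000000000000000000000000000000000000000000000000000000000000000000000000000000000000000000000000000000000000000000000000000000000000000352d000000002d25251d000000002d250000000000000000000000000000000000000000000000000000000000000000000000000000000000000000000000000000000000000000000000000000000000000000000000000000000000000000000000000000000000000000000000000000000000000000000000000000000000000000000000000000000000000000000000000000000000000000000000000000000000000000000000000000000000000000000000000000000000000000000000000000000000000000000000000000000000000000000000000000000000000000000000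000000000000000000000000000000000000000000000000000000000000000000000000000000000000000000000000000000000000000000000000000000000000000000000000000000000000000000000000000000000000000000000000000000000000000000000000000000000000000000000000000000000000000000000000000000000000000000000000000000000000000000000000000000000000000000000000000000000000000000000000000000000000000000000000000000000000000000000000000000000000000000000000000000000000000000000000000000000000000000000000000000000000000000000000000000000000000000000000000000000000000000000000000000000000000000000000000000000000000000332c00002b2100000000231a00002b2200000000000000000000000000000000000000000000000000000000000000000000000000000000000000000000000000000000000000000000000000000000000000000000000000002b230000201800000000000000000000000000000000000000000000000000000000000000000000000000000000000000000000000000000000000000000000000000000000000000000000000000002b2a0000282000000000000000000000000000000000000000000000000000000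00000000000000000000000000000000000000000000000000000000000000000000000000000002c240000211900001a120000221a2b24231c00000000000000001b14231c0000000000000000000000000000000000000000000000000000000000000000000000000000000000000000231b181000000000000000000000000000000000000000000000000000000000000000000000000000000000000000000000000000000000000000000000000000000000000000000000000000000000000000000000000000000000000000000000000000000000000000000000000000000000000000000000000000000000000000000000000000000000000000002324241c0000000000000000000000000000000000000000000000000000000000000000000000002619191100000000160919110000000000000000000000002b20231800000000000000000000000000000000000000000000000000000000000000002c1b2c14000000000000000023231c1c000000000000000000000000000000000000000000000000000000000000000000000000000000000000000000000000000000000000000000000000000000000000000000000000000000000000000000000000000000000000000000000000000000000000000000000000000000000000000000000000000000000000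00000000000000000000000000002b2c2c240000000000000000000000000000000000000000000000000000000000000000000000002611210900000000191911110000000000000000000000002e292b2600000000000000000000000000000000000000000000000000000000000000000000000000000000000000003433342c000000000000000000000000000000000000000000000000000000000000000000000000000000000000000000000000000000000000000000000000000000000000000000000000000000000000000000000000000000000000000000000000000000000000000000000000000000000000000000000000000000000000000023242b1c00000000000000002b2b24240000000000000000000000000000000000000000000000000000000000000000000000001e1921160000000026261e1e00000000000000001b15130a0b001308000000000000000000000000000000000000000000000000000000000000000000000000000000001e0b1800131308080000000000000000000000000000000000000000000000001b131b1b1608101000000000000000002b2b23231e1d2525000000000000000000000000000000000000000000000000000000000000000000000000000000002323231b1d151d1d00000000000000001b1a23231e12181800000000000000000000000000000000000000000000000013151b0e1b1b161600000000000000000000000000000000000000000000000000000000000000002c24241c261919111d15120a0e000000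

def ent (x : Λ) : ℕ := Nat.land (Nat.shiftRight tabC (Nat.mul 8 (Nat.add (nV x.left) (Nat.mul 16 x.right.1)))) 255
def mvI (x : Λ) : ℕ := Nat.land (ent x) 7
def dep (x : Λ) : ℕ := Nat.shiftRight (ent x) 3

/-- the check for the image `y` of `x` -/
def okC (x y : Λ) : Prop := y ∈ sT ∧ y * y = 1 ∧ y ≠ 1 ∧ repT y = repT x ∧ dep y < dep x

instance (x y : Λ) : Decidable (okC x y) := inferInstanceAs (Decidable (_ ∧ _))

theorem cert : ∀ x ∈ sT, x * x = 1 → x ≠ 1 → x = repT x ∨ (dom (mvI x) x = true ∧ okC x (mvF (mvI x) x)) := by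
  decide +kernel

/-! ### The group -/

variable {G : Type u} [Group G] [Finite G] {v : Λ → G} {O : Subgroup G} {g : G} {H K K' : Subgroup Λ} {a b : Λ}

omit [Finite G] in
theorem nm_gen (h : Emb H v) {l : List Λ} (n : Gen K l) (k : K ≤ H) (k' : K' ≤ H)
    (t : ∀ a ∈ l, ∃ b ∈ K', CJ v g a b) : Nm v g K K' := fun _ hx =>
  (n.2 { carrier := {a | a ∈ K ∧ ∃ b ∈ K', CJ v g a b}
         one_mem' := ⟨one_mem _, 1, one_mem _, h.cj_one⟩
         mul_mem' := fun ⟨ha, b, hb, e⟩ ⟨ha', b', hb', e'⟩ =>
           ⟨mul_mem ha ha', _, mul_mem hb hb', h.cj_mul (k ha) (k' hb) (k ha') (k' hb') e e'⟩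
         inv_mem' := fun ⟨ha, b, hb, e⟩ => ⟨inv_mem ha, _, inv_mem hb, h.cj_inv (k ha) (k' hb) e⟩ }
    (fun a ha => ⟨n.1 a ha, t a ha⟩) hx).2

theorem nm_inv (h : Emb H v) (k : K ≤ H) (n : Nm v g K K) : Nm v g⁻¹ K K := h.nm_of k (inv_mem (h.nz_of k n))

theorem notin (h : Emb H v) (k : K ≤ H) (n : Nm v g K K) (ha : a ∈ H) (e : CJ v g a b) (m : a ∉ K) : b ∉ K := fun hb =>
  let ⟨_, hc, e'⟩ := nm_inv h k n b hb
  m (h.cj_eq (k hc) ha e' e.symm ▸ hc)

theorem step (h : Emb H v) (k : K ≤ H) (nH : Nm v g H H) (n : Nm v g K K) (ha : a ∈ H) (hb : b ∈ H) (e : CJ v g a b)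
    (c : ∀ t ∈ H, t * a * t⁻¹ * a⁻¹ ∈ K) : ∀ t ∈ H, t * b * t⁻¹ * b⁻¹ ∈ K := fun t ht => by
  obtain ⟨s, hs, e1⟩ := nm_inv h le_rfl nH t ht
  have e2 : CJ v g s t := by simpa using e1.symm
  obtain ⟨d, hd, e3⟩ := n _ (c s hs)
  have e4 := h.cj_mul (mul_mem (mul_mem hs ha) (inv_mem hs)) (mul_mem (mul_mem ht hb) (inv_mem ht)) (inv_mem ha)
    (inv_mem hb) (h.cj_mul (mul_mem hs ha) (mul_mem ht hb) (inv_mem hs) (inv_mem ht) (h.cj_mul hs ht ha hb e2 e)
      (h.cj_inv hs ht e2)) (h.cj_inv ha hb e)
  exact h.cj_eq (k hd) (mul_mem (mul_mem (mul_mem ht hb) (inv_mem ht)) (inv_mem hb)) e3 e4 ▸ hd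

variable (h : Base v O)
include h

omit [Finite G] in
theorem nTO : Im v sT ≤ Nz O := h.syl.1.trans h.nO

omit [Finite G] in
theorem sq_eq {o : G} (ha : a ∈ sA) (ho : o ∈ O) : v a * o * (v a * o) = o * o := by
  have h1 := mem_cz_im.1 (h.cO ho) a ha
  have h2 := h.emb.sq (lA ha) (sqA a ha)
  calc v a * o * (v a * o) = v a * (o * v a) * o := by group
    _ = o * o := by rw [h1, ← mul_assoc, h2, one_mul]

theorem two (X : Subgroup G) (hX : IsPGroup 2 X) (c : G) (hc : c ∈ X) (hA : c ∈ Cz (Im v sA)) : c ∈ Im v sA := by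
  obtain ⟨a, ha, o, ho, rfl⟩ := h.cen c hA
  have h1 := Inv.eq_one_of_odd_of_isPGroup_two hX (sq_eq h ha ho ▸ X.mul_mem hc hc) (odd_of_mem h.odd (O.mul_mem ho ho))
  have h2 : o ∈ (⊥ : Subgroup G) :=
    mem_of_odd_pow (odd_of_mem h.odd ho) (pow_orderOf_eq_one o ▸ one_mem _) (h1 ▸ one_mem _)
  rw [mem_bot.1 h2, mul_one]
  exact im_mem ha

theorem oddO (c : G) (hA : c ∈ Cz (Im v sA)) (hc : Odd (orderOf c)) : c ∈ O := by
  obtain ⟨a, ha, o, ho, rfl⟩ := h.cen c hA
  exact mem_of_odd_pow hc (pow_orderOf_eq_one (v a * o) ▸ one_mem _) (sq_eq h ha ho ▸ O.mul_mem ho ho)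

theorem cenK (K : Subgroup Λ) (h1 : sA ≤ K) (h2 : K ≤ sT) (c : G) (hc : c ∈ Cz (Im v K)) :
    ∃ a ∈ sA, (∀ b ∈ K, a * b = b * a) ∧ ∃ o ∈ O, o ∈ Cz (Im v K) ∧ c = v a * o := by
  obtain ⟨a, ha, o, ho, rfl⟩ := h.cen c (mem_cz_im.2 fun a ha => mem_cz_im.1 hc a (h1 ha))
  have k : ∀ b ∈ K, o * v b = v b * o := fun b hb => by
    refine cent_of_odd (h.emb.pg le_rfl) h.odd (nTO h) ho (im_mem (h2 hb)) ?_
    have : o * v b * o⁻¹ = (v a)⁻¹ * (v a * o * v b) * o⁻¹ := by group
    rw [this, mem_cz_im.1 hc b hb, show (v a)⁻¹ * (v b * (v a * o)) * o⁻¹ = (v a)⁻¹ * v b * v a by group]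
    exact mul_mem (mul_mem (inv_mem (im_mem (lA ha))) (im_mem (h2 hb))) (im_mem (lA ha))
  refine ⟨a, ha, fun b hb => h.emb.comm_of (lA ha) (h2 hb) ?_, o, ho, mem_cz_im.2 k, rfl⟩
  have := mem_cz_im.1 hc b hb
  rw [mul_assoc, k b hb, ← mul_assoc, ← mul_assoc] at this
  exact mul_right_cancel this

theorem nOK (K : Subgroup Λ) (h1 : sA ≤ K) (h2 : K ≤ sT) : Nz (Im v K) ≤ Nz (O ⊓ Cz (Im v K)) := fun g hg =>
  mem_norm_fin fun x hx => by
    have k : g * x * g⁻¹ ∈ Cz (Im v K) := mem_centralizer_iff.2 fun y hy => by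
      have h3 := mem_centralizer_iff.1 hx.2 _ (conj_mem (inv_mem hg) hy)
      calc y * (g * x * g⁻¹) = g * (g⁻¹ * y * g⁻¹⁻¹ * x) * g⁻¹ := by group
        _ = g * x * g⁻¹ * y := by rw [h3]; group
    refine ⟨oddO h _ (mem_cz_im.2 fun a ha => mem_cz_im.1 k a (h1 ha)) ?_, k⟩
    have : orderOf (g * x * g⁻¹) = orderOf x := (MulAut.conj g).orderOf_eq x
    exact this ▸ odd_of_mem h.odd hx.1

theorem nc (g : G) (X : Subgroup G) (hX : IsPGroup 2 X)
    (hc : ∀ a ∈ sA, ∀ x ∈ X, x * (g * v a * g⁻¹) = g * v a * g⁻¹ * x) : Nat.card X ≤ 16 := by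
  have h1 : X.map (MulAut.conj g⁻¹).toMonoidHom ≤ Im v sA := fun y hy => by
    refine two h _ (hX.map _) y hy ?_
    obtain ⟨x, hx, rfl⟩ := hy
    refine mem_cz_im.2 fun a ha => ?_
    change g⁻¹ * x * g⁻¹⁻¹ * v a = v a * (g⁻¹ * x * g⁻¹⁻¹)
    calc g⁻¹ * x * g⁻¹⁻¹ * v a = g⁻¹ * (x * (g * v a * g⁻¹)) * g := by group
      _ = _ := by rw [hc a ha x hx]; group
  have h2 := card_le_of_le h1
  rwa [card_map_of_injective (MulAut.conj g⁻¹).injective, h.emb.card_im lA, cardA] at h2

theorem flagA (g : G) (nT : Nm v g sT sT) (nA : Nm v g sA sA) : ∃ y ∈ sT, Act v g sT fun a => y * a * y⁻¹ := by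
  have E := h.emb
  have m1 : ez ∈ sA := by decide +kernel
  have m2 : e25 ∈ sA := by decide +kernel
  have m3 : e35 ∈ sA := by decide +kernel
  have m4 : e45 ∈ sA := by decide +kernel
  obtain ⟨b1, hb1, e1⟩ := nA _ m1
  obtain ⟨b2, hb2, e2⟩ := nA _ m2
  obtain ⟨b3, hb3, e3⟩ := nA _ m3
  obtain ⟨b4, hb4, e4⟩ := nA _ m4
  have n0 : Nm v g ⊥ ⊥ := fun a ha => ⟨1, one_mem _, E.cj_one.of_eq (mem_bot.1 ha).symm rfl⟩
  obtain rfl : b1 = ez := by
    refine d1 b1 hb1 (fun t ht => ?_) fun k => ?_
    · have := step E bot_le nT n0 (lA m1) (lA hb1) e1 (fun t ht => by rw [c1 t ht]; simp) t (d0 t ht)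
      rwa [mem_bot, mul_inv_eq_one, mul_inv_eq_iff_eq_mul] at this
    · exact absurd (E.cj_eq' (lA m1) (one_mem _) (k ▸ e1) E.cj_one) (by decide +kernel)
  have n1 : Nm v g sZ sZ := nm_gen E genZ lZ lZ (by
    simp only [List.forall_mem_cons, List.not_mem_nil, false_imp_iff, implies_true, and_true]
    exact ⟨_, by decide +kernel, e1⟩)
  have k2 : b2 ∈ sF := d2 b2 hb2 fun t ht => step E lZ nT n1 (lA m2) (lA hb2) e2 c2 t (d0 t ht)
  have n2 : Nm v g sF sF := nm_gen E genF lF lF (by
    simp only [List.forall_mem_cons, List.not_mem_nil, false_imp_iff, implies_true, and_true]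
    exact ⟨⟨_, by decide +kernel, e1⟩, _, k2, e2⟩)
  have k3 : b3 ∈ sF3 := d3 b3 hb3 fun t ht => step E lF nT n2 (lA m3) (lA hb3) e3 c3 t (d0 t ht)
  have n3 : Nm v g sF3 sF3 := nm_gen E genF3 lF3 lF3 (by
    simp only [List.forall_mem_cons, List.not_mem_nil, false_imp_iff, implies_true, and_true]
    refine ⟨⟨_, by decide +kernel, e1⟩, ⟨_, ?_, e2⟩, _, k3, e3⟩
    revert b2
    suffices ∀ b ∈ sF, b ∈ sF3 from fun b _ _ k => this b k
    decide +kernel)
  obtain ⟨n, hn, y2, y3, y4⟩ := exA b2 k2 (notin E lZ n1 (lA m2) e2 (by decide +kernel)) b3 k3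
    (notin E lF n2 (lA m3) e3 (by decide +kernel)) b4 hb4 (notin E lF3 n3 (lA m4) e4 (by decide +kernel))
  have hy := yAm n hn
  generalize yA n = y at hy y2 y3 y4
  have y1 : y * ez * y⁻¹ = ez := by rw [c1 y hy, mul_inv_cancel_right]
  have act : Act v g sA fun a => y * a * y⁻¹ := by
    refine E.act_conj le_rfl (fun a ha => mul_mem (mul_mem hy ha) (inv_mem hy)) nfA (fun i hi k => ?_) fun i hi k => ?_
    · obtain rfl := tA1 i hi k
      exact ⟨lA m1, e1.of_eq rfl y1.symm⟩
    · rcases tA2 i hi k with rfl | rfl | rfl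
      exacts [⟨lA m2, e2.of_eq rfl y2.symm⟩, ⟨lA m3, e3.of_eq rfl y3.symm⟩, ⟨lA m4, e4.of_eq rfl y4.symm⟩]
  obtain ⟨a, ha, o, ho, e⟩ := h.cen ((v y)⁻¹ * g) (mem_cz_im.2 fun a ha =>
    ((act a ha).comp (E.self hy (lA ha)).symm).comm)
  have hg : g = v (y * a) * o := by rw [E.mul _ hy _ (lA ha), mul_assoc, ← e]; group
  have hya : y * a ∈ sT := mul_mem hy (lA ha)
  have no : o ∈ Nz (Im v sT) :=
    (mul_mem_cancel_left (le_normalizer (im_mem hya))).1 (hg ▸ E.nz_of le_rfl nT)
  refine ⟨y * a, hya, fun t ht => ?_⟩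
  have k := cent_of_odd (E.pg le_rfl) h.odd (nTO h) ho (im_mem ht) (conj_mem no (im_mem ht))
  exact hg ▸ (cj_of_comm k).comp (E.self hya ht)

theorem flagB (g : G) (e1 : CJ v g ez ez) (h2 : ∃ b ∈ sd vZ2 p1, CJ v g e14 b) (h3 : ∃ b ∈ sd v3 p1, CJ v g e13 b)
    (h4 : ∃ b ∈ sB, CJ v g e12 b) : ∃ y ∈ sT, Act v g sB fun a => y * a * y⁻¹ := by
  have E := h.emb
  have m1 : ez ∈ sT := by decide +kernel
  have m2 : e14 ∈ sT := by decide +kernel
  have m3 : e13 ∈ sT := by decide +kernel
  have m4 : e12 ∈ sT := by decide +kernel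
  obtain ⟨b2, k2, e2⟩ := h2
  obtain ⟨b3, k3, e3⟩ := h3
  obtain ⟨b4, k4, e4⟩ := h4
  have n1 : Nm v g sZ sZ := nm_gen E genZ lZ lZ (by
    simp only [List.forall_mem_cons, List.not_mem_nil, false_imp_iff, implies_true, and_true]
    exact ⟨_, by decide +kernel, e1⟩)
  have n2 : Nm v g sZ2 sZ2 := nm_gen E genZ2 lZ2 lZ2 (by
    simp only [List.forall_mem_cons, List.not_mem_nil, false_imp_iff, implies_true, and_true]
    exact ⟨⟨_, by decide +kernel, e1⟩, _, k2, e2⟩)
  have n3 : Nm v g sZ3 sZ3 := nm_gen E genZ3 lZ3 lZ3 (by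
    simp only [List.forall_mem_cons, List.not_mem_nil, false_imp_iff, implies_true, and_true]
    refine ⟨⟨_, by decide +kernel, e1⟩, ⟨_, ?_, e2⟩, _, k3, e3⟩
    revert b2
    suffices ∀ b ∈ sZ2, b ∈ sZ3 from fun b k _ => this b k
    decide +kernel)
  obtain ⟨n, hn, y2, y3, y4⟩ := exB b2 k2 (notin E lZ n1 m2 e2 (by decide +kernel)) b3 k3
    (notin E lZ2 n2 m3 e3 (by decide +kernel)) b4 k4 (notin E lZ3 n3 m4 e4 (by decide +kernel))
  have hy := yBm n hn
  generalize yB n = y at hy y2 y3 y4
  have y1 : y * ez * y⁻¹ = ez := by rw [c1 y hy, mul_inv_cancel_right]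
  refine ⟨y, hy, E.act_conj le_rfl (fun a ha => mul_mem (mul_mem hy ha) (inv_mem hy)) nfB (fun i hi k => ?_)
    fun i hi k => ?_⟩
  · rcases tB1 i hi k with rfl | rfl | rfl | rfl
    exacts [⟨m1, e1.of_eq rfl y1.symm⟩, ⟨m2, e2.of_eq rfl y2.symm⟩, ⟨m3, e3.of_eq rfl y3.symm⟩,
      ⟨m4, e4.of_eq rfl y4.symm⟩]
  · exact absurd k (tB2 i hi)

omit [Finite G] in
theorem move (m : ℕ) {x : Λ} (hx : x ∈ sT) (d : dom m x = true) : FU v x (mvF m x) := by
  obtain ⟨g1, a1⟩ := h.g12
  obtain ⟨g2, a2⟩ := h.g23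
  obtain ⟨g3, a3⟩ := h.g34
  match m, d with
  | 0, d => exact (a1 x (of_decide_eq_true d)).fu
  | 1, d => exact (a2 x (of_decide_eq_true d)).fu
  | 2, d => exact (a3 x (of_decide_eq_true d)).fu
  | 3, _ => exact (h.emb.self (a := e12) (by decide +kernel) hx).fu
  | 4, _ => exact (h.emb.self (a := e23) (by decide +kernel) hx).fu
  | 5, _ => exact (h.emb.self (a := e34) (by decide +kernel) hx).fu
  | _ + 6, _ => exact (h.emb.self (a := e45) (by decide +kernel) hx).fu

omit [Finite G] in
theorem cls (x : Λ) (hx : x ∈ sT) (h1 : x * x = 1) (h2 : x ≠ 1) : FU v x (repT x) := by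
  induction hn : dep x using Nat.strong_induction_on generalizing x with
  | _ n ih =>
    rcases cert x hx h1 h2 with e | ⟨d, k1, k2, k3, k4, k5⟩
    · exact e ▸ FU.refl x
    · exact (move h _ hx d).trans (k4 ▸ ih _ (hn ▸ k5) _ k1 k2 k3 rfl)

end BsP

theorem bsThm : BsThm.{u} := fun _ _ _ _ _ h =>
  ⟨h, BsP.two h, BsP.oddO h, BsP.cenK h, BsP.nOK h, BsP.nc h, BsP.flagA h, BsP.flagB h, BsP.cls h⟩

end CL.HY
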